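import Mathlib
import Groth.Prelude.Def_DRing3
import Groth.Prelude.Def_DRing4
import Groth.Agent.Lib.Helper5.RHomK.Basic
import Groth.Agent.Lib.Helper5.DComp.Iter
import Groth.Agent.Lib.Helper5.DRing.ToSingle

/-!
# `Hⁿ(Hom•(K, J)) ≃ Hom_{D(A)}(K, J[n])` for K-injective `J`, linearly
-/

set_option autoImplicit false
universe u
open CategoryTheory CategoryTheory.Limits CochainComplex CochainComplex.HomComplex

attribute [local instance] HasDerivedCategory.standard

namespace Helper5.RHomE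

open DerivedCategory Helper5.RHomK

variable {A : Type u} [CommRing A] (K J : DRing.Cx A) (n : ℤ)

/-- cocycles of `Hom•(K, J)` in degree `n` -/
noncomputable abbrev Zn : Submodule A (Cochain K J n) :=
  LinearMap.ker ((DRing.homCx K J).sc' (n - 1) n (n + 1)).g.hom

lemma mem_Zn (z : Cochain K J n) : z ∈ Zn K J n ↔ δ n (n + 1) z = 0 := by
  rw [LinearMap.mem_ker]
  rfl

/-- the chain map `K ⟶ J⟦n⟧` of a cocycle -/
noncomputable def cocycleHom (z : Zn K J n) : K ⟶ J⟦n⟧ :=
  Cocycle.equivHomShift.symm (Cocycle.mk z.1 (n + 1) rfl ((mem_Zn K J n z.1).1 z.2))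

lemma cocycleHom_f (z : Zn K J n) (p q : ℤ) (hpq : p + n = q) :
    (cocycleHom K J n z).f p = z.1.v p q hpq ≫ (J.shiftFunctorObjXIso n p q hpq.symm).inv := by
  subst hpq
  simp [cocycleHom, Cocycle.equivHomShift_symm_apply, Cochain.rightShift_v _ n 0 (zero_add n) p p
    (add_zero p) (p + n) rfl]

lemma cocycleHom_add (z z' : Zn K J n) :
    cocycleHom K J n (z + z') = cocycleHom K J n z + cocycleHom K J n z' := by
  ext p : 1
  rw [HomologicalComplex.add_f_apply, cocycleHom_f K J n _ p (p + n) rfl,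
    cocycleHom_f K J n _ p (p + n) rfl, cocycleHom_f K J n _ p (p + n) rfl, ← Preadditive.add_comp]
  rfl

lemma cocycleHom_smul (a : A) (z : Zn K J n) :
    cocycleHom K J n (a • z) = a • cocycleHom K J n z := by
  ext p : 1
  rw [HomologicalComplex.smul_f_apply, cocycleHom_f K J n _ p (p + n) rfl,
    cocycleHom_f K J n _ p (p + n) rfl, ← Linear.smul_comp]
  rfl

/-- cocycles to morphisms in the derived category -/
noncomputable def PhiH : Zn K J n →ₗ[A] (Q.obj K ⟶ (Q.obj J)⟦n⟧) where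
  toFun z := Q.map (cocycleHom K J n z) ≫ (Q.commShiftIso n).hom.app J
  map_add' z z' := by
    rw [cocycleHom_add, Functor.map_add, Preadditive.add_comp]
  map_smul' a z := by
    rw [cocycleHom_smul, Functor.map_smul, Linear.smul_comp]
    rfl

lemma PhiH_apply (z : Zn K J n) :
    PhiH K J n z = Q.map (cocycleHom K J n z) ≫ (Q.commShiftIso n).hom.app J := rfl

variable [J.IsKInjective]

lemma PhiH_surjective : Function.Surjective (PhiH K J n) := by
  intro u
  obtain ⟨φ, hφ⟩ := Helper5.KInj.exists_Q_map_eq (u ≫ (Q.commShiftIso n).inv.app J)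
  let c := Cocycle.equivHomShift φ
  have hc : δ n (n + 1) c.1 = 0 := c.δ_eq_zero (n + 1)
  refine ⟨⟨c.1, (mem_Zn K J n c.1).2 hc⟩, ?_⟩
  rw [PhiH_apply]
  have h1 : cocycleHom K J n ⟨c.1, (mem_Zn K J n c.1).2 hc⟩ = φ := by
    change Cocycle.equivHomShift.symm (Cocycle.mk c.1 (n + 1) rfl _) = φ
    exact Cocycle.equivHomShift.symm_apply_apply φ
  rw [h1, hφ, Category.assoc, Iso.inv_hom_id_app]
  exact Category.comp_id u

lemma ker_PhiH : LinearMap.ker (PhiH K J n) =
    LinearMap.range ((DRing.homCx K J).sc' (n - 1) n (n + 1)).moduleCatToCycles := by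
  ext z
  have hz : δ n (n + 1) z.1 = 0 := (mem_Zn K J n z.1).1 z.2
  let x : Cocycle K J n := Cocycle.mk z.1 (n + 1) rfl hz
  have key : PhiH K J n z = 0 ↔ x ∈ coboundaries K J n := by
    rw [← CohomologyClass.toHom_mk_eq_zero_iff, CohomologyClass.toHom_mk, PhiH_apply]
    constructor
    · intro h
      have h1 : Q.map (cocycleHom K J n z) = 0 := by
        have := congrArg (fun t => t ≫ (Q.commShiftIso n).inv.app J) h
        simpa using this
      obtain ⟨H⟩ := Helper5.KInj.nonempty_homotopy_of_Q_map_eq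
        (φ := cocycleHom K J n z) (φ' := 0) (h1.trans (Functor.map_zero _ _ _).symm)
      rw [HomotopyCategory.quotient_map_eq_zero_iff]
      exact ⟨H⟩
    · intro h
      rw [HomotopyCategory.quotient_map_eq_zero_iff] at h
      obtain ⟨H⟩ := h
      have h1 : Q.map (cocycleHom K J n z) = Q.map 0 :=
        Groth.Agent.Helper5.ToSingle.Q_map_eq_of_homotopy _ _ H
      rw [show Q.map (cocycleHom K J n z) = 0 from h1.trans (Functor.map_zero _ _ _), zero_comp]
  rw [LinearMap.mem_ker, key, mem_coboundaries_iff x (n - 1) (by omega)]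
  constructor
  · rintro ⟨β, hβ⟩
    exact ⟨(show (DRing.homCx K J).X (n - 1) from β), Subtype.ext hβ⟩
  · rintro ⟨(β : Cochain K J (n - 1)), hβ⟩
    exact ⟨β, congrArg Subtype.val hβ⟩

/-- `Hⁿ(Hom•(K, J)) ≃ Hom_{D(A)}(K, J[n])` -/
noncomputable def homCxHomologyEquiv :
    ((DRing.homCx K J).homology n) ≃ₗ[A] (Q.obj K ⟶ (Q.obj J)⟦n⟧) :=
  ((DRing.homCx K J).homologyIsoSc' (n - 1) n (n + 1) (by simp) (by simp) ≪≫
      ((DRing.homCx K J).sc' (n - 1) n (n + 1)).moduleCatHomologyIso).toLinearEquiv ≪≫ₗ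
    (Submodule.quotEquivOfEq _ _ (ker_PhiH K J n).symm) ≪≫ₗ
    (PhiH K J n).quotKerEquivOfSurjective (PhiH_surjective K J n)

omit [J.IsKInjective] in
/-- `Hⁿ(RHom(K, L)) ≃ Hom_{D(A)}(K, L[n])` -/
theorem nonempty_rhom_HD_equiv [DRing.HasRHomCx K] (L : Dual.D A) :
    Nonempty (Dual.HD A ((DRing.RHomCx K).obj L) n ≃ₗ[A] (Q.obj K ⟶ L⟦n⟧)) := by
  obtain ⟨J, j, hJ, hj⟩ := Helper5.KInj.exists_kinjective_resolution (Q.objPreimage L)
  haveI := hJ
  haveI : IsIso (Q.map j) := (DerivedCategory.isIso_Q_map_iff_quasiIso (φ := j)).2 hj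
  let eL : L ≅ Q.obj J := (Q.objObjPreimageIso L).symm ≪≫ asIso (Q.map j)
  let e1 : Dual.HD A ((DRing.RHomCx K).obj L) n ≃ₗ[A] Dual.HD A (Q.obj (DRing.homCx K J)) n :=
    ((DerivedCategory.homologyFunctor (ModuleCat.{u} A) n).mapIso
      ((DRing.RHomCx K).mapIso eL ≪≫ rhomIso K J)).toLinearEquiv
  let e2 := Helper5.DComp.HDQEquiv (DRing.homCx K J) n
  let e3 := homCxHomologyEquiv K J n
  let e4 : (Q.obj K ⟶ (Q.obj J)⟦n⟧) ≃ₗ[A] (Q.obj K ⟶ L⟦n⟧) :=
    Linear.homCongr A (Iso.refl _) ((CategoryTheory.shiftFunctor (Dual.D A) n).mapIso eL.symm)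
  exact ⟨e1.trans (e2.trans (e3.trans e4))⟩

end Helper5.RHomE
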