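import Mathlib
import Groth.Prelude.Def_DRing3
import Groth.Prelude.Def_DRing4
import Groth.Agent.Lib.Helper5.HomCx.Basic
import Groth.Agent.Lib.Helper5.RHomK.Basic
import Groth.Agent.Lib.Helper5.RHomK.QisFirst
import Groth.Agent.Lib.Helper5.RGam.GMb

/-!
# `Hom•(T, Γ_I X) ≅ Hom•(T, X)` for termwise torsion `T`; invariance of `RHom` in the first variable
-/

set_option autoImplicit false
universe u
open CategoryTheory CategoryTheory.Limits CochainComplex CochainComplex.HomComplex Pretriangulated

attribute [local instance] HasDerivedCategory.standard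

namespace Helper5.RHomE

open Groth.Agent.Lib.Helper5.HomCx Helper5.RGam Helper5.RHomK DRing DerivedCategory

variable {A : Type u} [CommRing A]

/-- `RHom(K, -)` exists for every complex `K` -/
theorem hasRHomCx (K : DRing.Cx A) : DRing.HasRHomCx K := by
  haveI := Helper5.KInj.hasPointwiseRightDerivedFunctorQ (DRing.homCxQ K)
    (homCxQ_map_eq_of_homotopy K) (Helper5.RHomK.hasKInjRes_moduleCat (A := A))
  exact Functor.hasRightDerivedFunctor_of_hasPointwiseRightDerivedFunctor _ _

/-- `Hom•(T, Γ_I X) ⟶ Hom•(T, X)` is an isomorphism of complexes when `T` is termwise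
`I`-power torsion -/
theorem isIso_homCxMap_gammaIncl (I : Ideal A) (T X : DRing.Cx A)
    (hT : ∀ (p : ℤ) (t : T.X p), t ∈ torsionSub I (T.X p)) :
    IsIso (DRing.homCxMap T (gammaIncl I X)) := by
  haveI : ∀ i, IsIso ((DRing.homCxMap T (gammaIncl I X)).f i) := by
    intro i
    rw [ConcreteCategory.isIso_iff_bijective]
    haveI : ∀ q, Mono ((gammaIncl I X).f q) := fun q =>
      (ModuleCat.mono_iff_injective _).2 Subtype.val_injective
    constructor
    · intro (z : Cochain T (gammaCx I X) i) (z' : Cochain T (gammaCx I X) i) h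
      have h' : z.comp (Cochain.ofHom (gammaIncl I X)) (add_zero i) =
        z'.comp (Cochain.ofHom (gammaIncl I X)) (add_zero i) := h
      refine Cochain.ext _ _ (fun p q hpq => ?_)
      have := Cochain.congr_v h' p q hpq
      rw [Cochain.comp_zero_cochain_v, Cochain.comp_zero_cochain_v, Cochain.ofHom_v] at this
      exact (cancel_mono _).1 this
    · intro (z : Cochain T X i)
      refine ⟨Cochain.mk (fun p q hpq => ModuleCat.ofHom
        (LinearMap.codRestrict (torsionSub I (X.X q)) (z.v p q hpq).hom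
          (fun t => map_mem_torsionSub I _ (hT p t)))), ?_⟩
      change Cochain.comp _ (Cochain.ofHom (gammaIncl I X)) (add_zero i) = z
      refine Cochain.ext _ _ (fun p q hpq => ?_)
      rw [Cochain.comp_zero_cochain_v, Cochain.ofHom_v, Cochain.mk_v]
      rfl
  exact HomologicalComplex.Hom.isIso_of_components _

/-- `RHom(G, L)` only depends on the class of `G` in `D(A)` -/
theorem nonempty_rhom_iso_of_iso (G G' : DRing.Cx A) [DRing.HasRHomCx G] [DRing.HasRHomCx G']
    (e : Q.obj G ≅ Q.obj G') (L : Dual.D A) :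
    Nonempty ((DRing.RHomCx G).obj L ≅ (DRing.RHomCx G').obj L) := by
  obtain ⟨J, j, hJ, hj⟩ := Helper5.KInj.exists_kinjective_resolution (Q.objPreimage L)
  haveI := hJ
  haveI : IsIso (Q.map j) := (DerivedCategory.isIso_Q_map_iff_quasiIso (φ := j)).2 hj
  let eL : L ≅ Q.obj J := (Q.objObjPreimageIso L).symm ≪≫ asIso (Q.map j)
  obtain ⟨J', j', hJ', hj'⟩ := Helper5.KInj.exists_kinjective_resolution G'
  haveI := hJ'
  haveI : IsIso (Q.map j') := (DerivedCategory.isIso_Q_map_iff_quasiIso (φ := j')).2 hj'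
  obtain ⟨g, hg⟩ := Helper5.KInj.exists_Q_map_eq (e.hom ≫ Q.map j')
  have hgq : QuasiIso g := by
    rw [← DerivedCategory.isIso_Q_map_iff_quasiIso, hg]
    infer_instance
  have h1 := quasiIso_homCxPre J g hgq
  have h2 := quasiIso_homCxPre J j' hj'
  haveI : IsIso (Q.map (homCxPre g J)) :=
    (DerivedCategory.isIso_Q_map_iff_quasiIso (φ := homCxPre g J)).2 h1
  haveI : IsIso (Q.map (homCxPre j' J)) :=
    (DerivedCategory.isIso_Q_map_iff_quasiIso (φ := homCxPre j' J)).2 h2
  exact ⟨(DRing.RHomCx G).mapIso eL ≪≫ rhomIso G J ≪≫ (asIso (Q.map (homCxPre g J))).symm ≪≫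
    asIso (Q.map (homCxPre j' J)) ≪≫ (rhomIso G' J).symm ≪≫ ((DRing.RHomCx G').mapIso eL).symm⟩

end Helper5.RHomE
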