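import Mathlib
import Groth.Prelude.Def_DRing3
import Groth.Prelude.Def_DRing4
import Groth.Agent.Lib.Helper5.KInj.DerivedQ
import Groth.Agent.Lib.Helper5.DComp.Iter
import Groth.Agent.Lib.Helper5.DRing.ToSingle
import Groth.Agent.Lib.Helper3.DualFun2

/-!
# `Hom_{D(A)}(X, E[-i]) ≃ Hom_A(Hⁱ(X), E)` for an injective module `E`
-/

set_option autoImplicit false
universe u
open CategoryTheory CategoryTheory.Limits CochainComplex CochainComplex.HomComplex

attribute [local instance] HasDerivedCategory.standard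

namespace Helper5.RHomE

open DerivedCategory

variable {A : Type u} [CommRing A] (G : DRing.Cx A) (i : ℤ)
  (E : Type u) [AddCommGroup E] [Module A E]

/-- `E` placed in degree `i` -/
noncomputable abbrev SE : DRing.Cx A :=
  (HomologicalComplex.single (ModuleCat.{u} A) (ComplexShape.up ℤ) i).obj (ModuleCat.of A E)

/-- maps `Gⁱ → E` vanishing on boundaries -/
noncomputable abbrev Zi : Submodule A (G.X i →ₗ[A] E) :=
  LinearMap.ker (LinearMap.lcomp A E (G.d (i - 1) i).hom)

lemma mem_Zi (l : G.X i →ₗ[A] E) :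
    l ∈ Zi G i E ↔ G.d (i - 1) i ≫ ModuleCat.ofHom l = 0 := by
  rw [LinearMap.mem_ker]
  constructor
  · intro h
    apply ModuleCat.hom_ext
    exact h
  · intro h
    exact congrArg ModuleCat.Hom.hom h

/-- the chain map `G ⟶ E[-i]` of `l` -/
noncomputable def toSE (l : Zi G i E) : G ⟶ SE i E :=
  HomologicalComplex.mkHomToSingle (ModuleCat.ofHom l.1) (fun j hj => by
    obtain rfl : j = i - 1 := by simp at hj; omega
    exact (mem_Zi G i E l.1).1 l.2)

lemma toSE_f (l : Zi G i E) : (toSE G i E l).f i =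
    ModuleCat.ofHom l.1 ≫ (HomologicalComplex.singleObjXSelf (ComplexShape.up ℤ) i _).inv :=
  HomologicalComplex.mkHomToSingle_f _ _

lemma toSE_add (l l' : Zi G i E) : toSE G i E (l + l') = toSE G i E l + toSE G i E l' := by
  apply HomologicalComplex.to_single_hom_ext
  rw [HomologicalComplex.add_f_apply, toSE_f, toSE_f, toSE_f, ← Preadditive.add_comp]
  rfl

lemma toSE_smul (a : A) (l : Zi G i E) : toSE G i E (a • l) = a • toSE G i E l := by
  apply HomologicalComplex.to_single_hom_ext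
  rw [HomologicalComplex.smul_f_apply, toSE_f, toSE_f, ← Linear.smul_comp]
  rfl

/-- `l ↦ [G ⟶ E[-i]]` in the derived category -/
noncomputable def PhiS : Zi G i E →ₗ[A] (Q.obj G ⟶ Q.obj (SE i E)) where
  toFun l := Q.map (toSE G i E l)
  map_add' l l' := by rw [toSE_add, Functor.map_add]
  map_smul' a l := by
    rw [toSE_smul, Functor.map_smul]
    rfl

lemma PhiS_apply (l : Zi G i E) : PhiS G i E l = Q.map (toSE G i E l) := rfl

/-- the range of `h ↦ h ∘ d` inside `Zi` -/
noncomputable abbrev Bi : Submodule A (Zi G i E) :=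
  LinearMap.range (LinearMap.codRestrict (Zi G i E) (LinearMap.lcomp A E (G.d i (i + 1)).hom)
    (fun h => by
      rw [mem_Zi]
      apply ModuleCat.hom_ext
      apply LinearMap.ext
      intro x
      change h ((G.d i (i + 1)).hom ((G.d (i - 1) i).hom x)) = 0
      have := congrArg (fun t => t.hom x) (G.d_comp_d (i - 1) i (i + 1))
      simp only [ModuleCat.hom_comp, LinearMap.comp_apply] at this
      rw [this]
      simp))

lemma mem_Bi (l : Zi G i E) :
    l ∈ Bi G i E ↔ ∃ g : G.X (i + 1) ⟶ ModuleCat.of A E, G.d i (i + 1) ≫ g = ModuleCat.ofHom l.1 := by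
  constructor
  · rintro ⟨h, rfl⟩
    exact ⟨ModuleCat.ofHom h, rfl⟩
  · rintro ⟨g, hg⟩
    refine ⟨g.hom, Subtype.ext ?_⟩
    exact congrArg ModuleCat.Hom.hom hg

variable [Module.Injective A E]

instance isKInjective_SE : (SE (A := A) i E).IsKInjective := by
  haveI : Injective (ModuleCat.of A E) := Module.injective_object_of_injective_module A E
  haveI : ∀ n, Injective ((SE i E).X n) := by
    intro n
    by_cases h : n = i
    · exact Injective.of_iso (HomologicalComplex.singleObjXIsoOfEq (ComplexShape.up ℤ) i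
        (ModuleCat.of A E) n h).symm inferInstance
    · exact (HomologicalComplex.isZero_single_obj_X (ComplexShape.up ℤ) i _ n h).injective
  exact CochainComplex.isKInjective_of_injective (SE (A := A) i E) i

lemma PhiS_surjective : Function.Surjective (PhiS G i E) := by
  intro u
  obtain ⟨φ, rfl⟩ := Helper5.KInj.exists_Q_map_eq u
  let f : G.X i ⟶ ModuleCat.of A E :=
    φ.f i ≫ (HomologicalComplex.singleObjXSelf (ComplexShape.up ℤ) i (ModuleCat.of A E)).hom
  have hf : G.d (i - 1) i ≫ f = 0 := by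
    dsimp only [f]
    rw [← Category.assoc, ← φ.comm, HomologicalComplex.single_obj_d, Limits.comp_zero,
      Limits.zero_comp]
  refine ⟨⟨f.hom, (mem_Zi G i E f.hom).2 hf⟩, ?_⟩
  rw [PhiS_apply]
  congr 1
  apply HomologicalComplex.to_single_hom_ext
  rw [toSE_f]
  dsimp only [f]
  rw [ModuleCat.ofHom_hom, Category.assoc, Iso.hom_inv_id, Category.comp_id]

omit [Module.Injective A E] in
lemma ofHom_toSE (l : Zi G i E) :
    Cochain.ofHom (toSE G i E l) = Cochain.toSingleMk (ModuleCat.ofHom l.1) (add_zero i) := by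
  apply (Cochain.toSingleEquiv (add_zero i)).injective
  rw [Cochain.toSingleEquiv_toSingleMk]
  change (Cochain.ofHom (toSE G i E l)).v i i (add_zero i) ≫ _ = _
  rw [Cochain.ofHom_v, toSE_f, Category.assoc, Iso.inv_hom_id, Category.comp_id]

lemma ker_PhiS : LinearMap.ker (PhiS G i E) = Bi G i E := by
  ext l
  have hf := (mem_Zi G i E l.1).1 l.2
  rw [LinearMap.mem_ker, PhiS_apply, mem_Bi,
    ← Cocycle.toSingleMk_mem_coboundaries_iff (ModuleCat.ofHom l.1) (add_zero i) (i - 1)
      (by omega) hf (i + 1) rfl,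
    mem_coboundaries_iff _ (-1) (by omega)]
  constructor
  · intro h
    obtain ⟨H⟩ := Helper5.KInj.nonempty_homotopy_of_Q_map_eq
      (φ := toSE G i E l) (φ' := 0) (h.trans (Functor.map_zero _ _ _).symm)
    obtain ⟨z, hz⟩ := Cochain.equivHomotopy _ _ H
    refine ⟨z, ?_⟩
    have h2 : Cochain.ofHom (toSE G i E l) = δ (-1) 0 z := by
      rw [hz, Cochain.ofHom_zero, add_zero]
    exact h2.symm.trans (ofHom_toSE G i E l)
  · rintro ⟨z, hz⟩
    have h2 : δ (-1) 0 (show Cochain G (SE i E) (-1) from z) = Cochain.ofHom (toSE G i E l) :=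
      hz.trans (ofHom_toSE G i E l).symm
    have H : Homotopy (toSE G i E l) 0 :=
      (Cochain.equivHomotopy _ _).symm ⟨(show Cochain G (SE i E) (-1) from z), by
        rw [h2, Cochain.ofHom_zero, add_zero]⟩
    exact (Groth.Agent.Helper5.ToSingle.Q_map_eq_of_homotopy _ _ H).trans
      (Functor.map_zero _ _ _)

section Psi

omit [Module.Injective A E]

/-- the map `opcyclesⁱ → E` induced by `l` -/
noncomputable def descZ (l : Zi G i E) : G.opcycles i ⟶ ModuleCat.of A E :=
  G.descOpcycles (ModuleCat.ofHom l.1) (i - 1) (by simp) ((mem_Zi G i E l.1).1 l.2)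

lemma p_descZ (l : Zi G i E) : G.pOpcycles i ≫ descZ G i E l = ModuleCat.ofHom l.1 :=
  G.p_descOpcycles _ _ _ _

lemma descZ_add (l l' : Zi G i E) : descZ G i E (l + l') = descZ G i E l + descZ G i E l' := by
  rw [← cancel_epi (G.pOpcycles i), Preadditive.comp_add, p_descZ, p_descZ, p_descZ]
  rfl

lemma descZ_smul (a : A) (l : Zi G i E) : descZ G i E (a • l) = a • descZ G i E l := by
  rw [← cancel_epi (G.pOpcycles i), Linear.comp_smul, p_descZ, p_descZ]
  rfl

/-- `l ↦ (Hⁱ(G) → opcyclesⁱ → E)` -/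
noncomputable def PsiS : Zi G i E →ₗ[A] (G.homology i →ₗ[A] E) where
  toFun l := (G.homologyι i ≫ descZ G i E l).hom
  map_add' l l' := by
    rw [descZ_add, Preadditive.comp_add]
    rfl
  map_smul' a l := by
    rw [descZ_smul, Linear.comp_smul]
    rfl

lemma PsiS_apply (l : Zi G i E) : PsiS G i E l = (G.homologyι i ≫ descZ G i E l).hom := rfl

end Psi

lemma PsiS_surjective : Function.Surjective (PsiS G i E) := by
  intro ψ
  haveI : Injective (ModuleCat.of A E) := Module.injective_object_of_injective_module A E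
  let ψ' : G.opcycles i ⟶ ModuleCat.of A E :=
    Injective.factorThru (ModuleCat.ofHom ψ) (G.homologyι i)
  have hψ' : G.homologyι i ≫ ψ' = ModuleCat.ofHom ψ := Injective.comp_factorThru _ _
  have hl : G.d (i - 1) i ≫ (G.pOpcycles i ≫ ψ') = 0 := by
    rw [← Category.assoc, G.d_pOpcycles, Limits.zero_comp]
  refine ⟨⟨(G.pOpcycles i ≫ ψ').hom, (mem_Zi G i E _).2 hl⟩, ?_⟩
  rw [PsiS_apply]
  have h1 : descZ G i E ⟨(G.pOpcycles i ≫ ψ').hom, (mem_Zi G i E _).2 hl⟩ = ψ' := by
    rw [← cancel_epi (G.pOpcycles i), p_descZ]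
    rfl
  rw [h1, hψ']
  rfl

lemma ker_PsiS : LinearMap.ker (PsiS G i E) = Bi G i E := by
  ext l
  haveI : Injective (ModuleCat.of A E) := Module.injective_object_of_injective_module A E
  rw [LinearMap.mem_ker, PsiS_apply, mem_Bi]
  constructor
  · intro h
    have h0 : G.homologyι i ≫ descZ G i E l = 0 := by
      apply ModuleCat.hom_ext
      exact h
    let S : ShortComplex (ModuleCat.{u} A) :=
      ShortComplex.mk (G.homologyι i) (G.fromOpcycles i (i + 1))
        (G.homologyι_comp_fromOpcycles i (i + 1))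
    have hS : S.Exact := ShortComplex.exact_of_f_is_kernel _ (G.homologyIsKernel i (i + 1) (by simp))
    refine ⟨hS.descToInjective (descZ G i E l) h0, ?_⟩
    have h1 : G.fromOpcycles i (i + 1) ≫ hS.descToInjective (descZ G i E l) h0 = descZ G i E l :=
      hS.comp_descToInjective _ _
    rw [← G.p_fromOpcycles i (i + 1), Category.assoc, h1, p_descZ]
  · rintro ⟨g, hg⟩
    have h1 : descZ G i E l = G.fromOpcycles i (i + 1) ≫ g := by
      rw [← cancel_epi (G.pOpcycles i), p_descZ, ← Category.assoc, G.p_fromOpcycles, hg]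
    rw [h1, ← Category.assoc, G.homologyι_comp_fromOpcycles, Limits.zero_comp]
    rfl

/-- `Hom_{D(A)}(G, E[-i]) ≃ Hom_A(Hⁱ(G), E)` -/
noncomputable def toSingleInjEquiv :
    (Q.obj G ⟶ Q.obj (SE i E)) ≃ₗ[A] (G.homology i →ₗ[A] E) :=
  ((PhiS G i E).quotKerEquivOfSurjective (PhiS_surjective G i E)).symm ≪≫ₗ
    Submodule.quotEquivOfEq _ _ ((ker_PhiS G i E).trans (ker_PsiS G i E).symm) ≪≫ₗ
    (PsiS G i E).quotKerEquivOfSurjective (PsiS_surjective G i E)

omit G in
/-- `Hom_{D(A)}(X, E[-i]) ≃ Hom_A(Hⁱ(X), E)` for injective `E` -/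
theorem nonempty_hom_shift_inj_equiv (X : Dual.D A) :
    Nonempty ((X ⟶ (Dual.inD A E)⟦-i⟧) ≃ₗ[A] (Dual.HD A X i →ₗ[A] E)) := by
  let G := Q.objPreimage X
  let eX : Q.obj G ≅ X := Q.objObjPreimageIso X
  let eS : (Dual.inD A E)⟦-i⟧ ≅ Q.obj (SE i E) :=
    Groth.Agent.Helper3.DualFun.theta (ModuleCat.of A E) i
  let e1 : (X ⟶ (Dual.inD A E)⟦-i⟧) ≃ₗ[A] (Q.obj G ⟶ Q.obj (SE i E)) :=
    Linear.homCongr A eX.symm eS
  let e2 := toSingleInjEquiv G i E
  let e3 : Dual.HD A X i ≃ₗ[A] G.homology i :=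
    ((DerivedCategory.homologyFunctor (ModuleCat.{u} A) i).mapIso eX.symm).toLinearEquiv ≪≫ₗ
      Helper5.DComp.HDQEquiv G i
  exact ⟨e1 ≪≫ₗ e2 ≪≫ₗ (LinearEquiv.arrowCongr e3 (LinearEquiv.refl A E)).symm⟩

end Helper5.RHomE
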