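import Mathlib
import Groth.Prelude.Def_DRing3
import Groth.Prelude.Def_DRing4
import Groth.Agent.Lib.Helper5.HomCx.Basic
import Groth.Agent.Lib.Helper5.RGam.GMb

/-!
# `Hom•(-, J)` for `J` with injective terms: exactness, and `Hom•(X / Γ_I X, J)` is left
orthogonal to derived complete objects
-/

set_option autoImplicit false
universe u
open CategoryTheory CategoryTheory.Limits CochainComplex CochainComplex.HomComplex Pretriangulated

attribute [local instance] HasDerivedCategory.standard

namespace Helper5.RHomE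

open Groth.Agent.Lib.Helper5.HomCx Helper5.RGam DRing DerivedCategory Helper5.DMod Helper5.DComp

variable {A : Type u} [CommRing A]

lemma homCxPre_zero (P P' l : DRing.Cx A) : homCxPre (0 : P ⟶ P') l = 0 := by
  refine HomologicalComplex.hom_ext _ _ fun i =>
    ModuleCat.hom_ext (LinearMap.ext fun (z : Cochain P' l i) => ?_)
  change (Cochain.ofHom (0 : P ⟶ P')).comp z (zero_add i) = 0
  rw [Cochain.ofHom_zero, Cochain.zero_comp]

lemma homCxPre_smul {P P' : DRing.Cx A} (a : A) (φ : P ⟶ P') (l : DRing.Cx A) :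
    homCxPre (a • φ) l = a • homCxPre φ l := by
  refine HomologicalComplex.hom_ext _ _ fun i =>
    ModuleCat.hom_ext (LinearMap.ext fun (z : Cochain P' l i) => ?_)
  change (Cochain.ofHom (a • φ)).comp z (zero_add i) = a • (Cochain.ofHom φ).comp z (zero_add i)
  ext p q hpq
  simp [Cochain.zero_cochain_comp_v]

lemma isIso_homCxPre {P P' : DRing.Cx A} (φ : P ⟶ P') [IsIso φ] (l : DRing.Cx A) :
    IsIso (homCxPre φ l) :=
  ⟨⟨homCxPre (inv φ) l, by rw [← homCxPre_comp, IsIso.inv_hom_id, homCxPre_id],
    by rw [← homCxPre_comp, IsIso.hom_inv_id, homCxPre_id]⟩⟩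

/-- if `f` acts invertibly on `C` then it acts invertibly on `Hom•(C, J)` -/
lemma isIso_smul_homCx (f : A) (C J : DRing.Cx A) [IsIso (f • 𝟙 C)] :
    IsIso (f • 𝟙 (DRing.homCx C J)) := by
  have h : homCxPre (f • 𝟙 C) J = f • 𝟙 (DRing.homCx C J) := by
    rw [homCxPre_smul, homCxPre_id]
  rw [← h]
  exact isIso_homCxPre _ J

lemma Nc_Q_of_isIso_smul (I : Ideal A) (f : A) (hf : f ∈ I) (X : DRing.Cx A)
    [IsIso (f • 𝟙 X)] : Nc I (Q.obj X) := by
  haveI : IsIso (f • 𝟙 (Q.obj X)) := by
    have h : Q.map (f • 𝟙 X) = f • 𝟙 (Q.obj X) := by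
      rw [Functor.map_smul, CategoryTheory.Functor.map_id]
    rw [← h]
    infer_instance
  exact Nc.of_isIso_smul f hf _

/-- `Hom•(-, J)` applied to a short complex of complexes -/
noncomputable abbrev homSC (S : ShortComplex (CochainComplex (ModuleCat.{u} A) ℤ))
    (J : DRing.Cx A) : ShortComplex (CochainComplex (ModuleCat.{u} A) ℤ) :=
  ShortComplex.mk (homCxPre S.g J) (homCxPre S.f J)
    (by rw [← homCxPre_comp, S.zero, homCxPre_zero])

theorem homSC_shortExact (S : ShortComplex (CochainComplex (ModuleCat.{u} A) ℤ))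
    (hS : S.ShortExact) (J : DRing.Cx A) (hJ : ∀ n, Injective (J.X n)) :
    (homSC S J).ShortExact := by
  apply HomologicalComplex.shortExact_of_degreewise_shortExact
  intro i
  have hSp : ∀ p, (S.map (HomologicalComplex.eval _ _ p)).ShortExact :=
    fun p => hS.map_of_exact _
  haveI : ∀ p, Epi (S.g.f p) := fun p => (hSp p).epi_g
  haveI : ∀ p, Mono (S.f.f p) := fun p => (hSp p).mono_f
  apply ModuleCat.shortComplex_shortExact
  · intro (z : Cochain S.X₂ J i)
    constructor
    · intro hz
      have hz' : (Cochain.ofHom S.f).comp z (zero_add i) = 0 := hz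
      have h0 : ∀ p q (hpq : p + i = q), S.f.f p ≫ z.v p q hpq = 0 := by
        intro p q hpq
        have := Cochain.congr_v hz' p q hpq
        rw [Cochain.zero_cochain_comp_v, Cochain.ofHom_v, Cochain.zero_v] at this
        exact this
      haveI : ∀ p, Epi (S.map (HomologicalComplex.eval _ _ p)).g := fun p => (hSp p).epi_g
      refine ⟨Cochain.mk (fun p q hpq => (hSp p).exact.desc (z.v p q hpq) (h0 p q hpq)), ?_⟩
      change (Cochain.ofHom S.g).comp _ (zero_add i) = z
      refine Cochain.ext _ _ (fun p q hpq => ?_)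
      rw [Cochain.zero_cochain_comp_v, Cochain.ofHom_v, Cochain.mk_v]
      exact (hSp p).exact.g_desc _ _
    · rintro ⟨y, rfl⟩
      change (Cochain.ofHom S.f).comp ((Cochain.ofHom S.g).comp y (zero_add i)) (zero_add i) = 0
      rw [← Cochain.comp_assoc_of_first_is_zero_cochain, ← Cochain.ofHom_comp, S.zero,
        Cochain.ofHom_zero, Cochain.zero_comp]
  · intro (z : Cochain S.X₃ J i) (z' : Cochain S.X₃ J i) h
    have h' : (Cochain.ofHom S.g).comp z (zero_add i) = (Cochain.ofHom S.g).comp z' (zero_add i) := h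
    refine Cochain.ext _ _ (fun p q hpq => ?_)
    have := Cochain.congr_v h' p q hpq
    rw [Cochain.zero_cochain_comp_v, Cochain.zero_cochain_comp_v, Cochain.ofHom_v] at this
    exact (cancel_epi (S.g.f p)).1 this
  · intro (z : Cochain S.X₁ J i)
    haveI := hJ
    refine ⟨Cochain.mk (fun p q hpq => Injective.factorThru (z.v p q hpq) (S.f.f p)), ?_⟩
    change (Cochain.ofHom S.f).comp _ (zero_add i) = z
    refine Cochain.ext _ _ (fun p q hpq => ?_)
    rw [Cochain.zero_cochain_comp_v, Cochain.ofHom_v, Cochain.mk_v]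
    exact Injective.comp_factorThru _ _

section Induction

variable [IsNoetherianRing A] (I : Ideal A)

/-- `Hom•(X / Γ_{I'} X, J)` is left orthogonal to the derived `I`-complete objects -/
theorem Nc_homCx_quotCx (J : DRing.Cx A) (hJ : ∀ n, Injective (J.X n)) (I' : Ideal A) :
    I' ≤ I → ∀ X : CochainComplex (ModuleCat.{u} A) ℤ, (∀ n, Module.Injective A (X.X n)) →
      Nc I (Q.obj (DRing.homCx (quotCx I' X) J)) := by
  refine Submodule.fg_induction (R := A) (M := A)
    (motive := fun I' _ => I' ≤ I → ∀ X : CochainComplex (ModuleCat.{u} A) ℤ,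
      (∀ n, Module.Injective A (X.X n)) → Nc I (Q.obj (DRing.homCx (quotCx I' X) J))) ?_ ?_ I'
    (IsNoetherian.noetherian I')
  · intro f hf X hinj
    haveI := isIso_smul_quotCx f X hinj
    haveI := isIso_smul_homCx f (quotCx (Ideal.span {f}) X) J
    exact Nc_Q_of_isIso_smul I f (hf (Ideal.mem_span_singleton_self f)) _
  · intro I₁ I₂ _ _ h₁ h₂ hle X hinj
    have hinj' : ∀ n, Module.Injective A ((gammaCx I₂ X).X n) :=
      fun n => haveI := hinj n; injective_torsionSub I₂ (X.X n)
    have hT := triangleOfSES_distinguished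
      (homSC_shortExact _ (supSC_shortExact I₁ I₂ X) J hJ)
    exact Nc.of_triangle _ hT (h₂ (le_sup_right.trans hle) X hinj)
      (h₁ (le_sup_left.trans hle) (gammaCx I₂ X) hinj')

/-- restriction `Hom•(X, J) ⟶ Hom•(Γ_I X, J)` is universal towards derived complete objects -/
theorem homCxPre_gammaIncl_precomp_bijective (X J : DRing.Cx A)
    (hX : ∀ n, Module.Injective A (X.X n)) (hJ : ∀ n, Injective (J.X n))
    (L : Dual.D A) (hL : DRing.IsDerivedComplete I L) :
    Function.Bijective (fun g : Q.obj (DRing.homCx (gammaCx I X) J) ⟶ L =>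
      Q.map (homCxPre (gammaIncl I X) J) ≫ g) := by
  have hT := triangleOfSES_distinguished
    (homSC_shortExact _ (gammaSC_shortExact I X) J hJ)
  have hrot := rot_of_distTriang _ hT
  have h3 : Nc I (Q.obj (DRing.homCx (quotCx I X) J)) := Nc_homCx_quotCx I J hJ I le_rfl X hX
  exact bijective_precomp_of_Nc _ hrot (h3.shift 1) L hL

end Induction

end Helper5.RHomE
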