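import Mathlib
import Groth.Prelude.Def_DRing3
import Groth.Prelude.Def_DRing4
import Groth.Agent.Lib.Helper5.DComp.ModelH
import Groth.Agent.Lib.Helper5.DComp.Iter
import Groth.Agent.Lib.Helper5.DMod.DCIdeal

/-!
# `Hom•(T, L)` is derived complete when `T` is termwise torsion
-/

set_option autoImplicit false
universe u
open CategoryTheory CategoryTheory.Limits CochainComplex CochainComplex.HomComplex

attribute [local instance] HasDerivedCategory.standard

namespace Helper5.RHomE

open Helper5.DMod Helper5.DComp DerivedCategory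

variable {A : Type u} [CommRing A]

/-- dependent products of derived complete modules are derived complete -/
lemma DC_pi_dep {f : A} {ι : Type*} (M : ι → Type*) [∀ j, AddCommGroup (M j)]
    [∀ j, Module A (M j)] (h : ∀ j, DC f (M j)) : DC f (∀ j, M j) := by
  constructor
  · rw [Phi_injective_iff]
    intro x hx
    ext i j
    have : (fun i => x i j) = 0 := by
      apply (Phi_injective_iff.mp (h j).1)
      intro i
      exact congrFun (hx i) j
    exact congrFun this i
  · intro m
    choose x hx using fun j => (h j).2 (fun i => m i j)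
    refine ⟨fun i j => x j i, ?_⟩
    ext i j
    exact congrFun (hx j) i

section LinearMap

open Classical

variable (f : A) (N X : Type*) [AddCommGroup N] [Module A N] [AddCommGroup X] [Module A X]
  (hN : ∀ t : N, ∃ n : ℕ, f ^ n • t = 0)

include hN in
lemma sum_eq_of_le (m : ℕ → (N →ₗ[A] X)) (i : ℕ) (t : N) (n : ℕ)
    (hn : Nat.find (hN t) ≤ n) :
    ∑ k ∈ Finset.range n, m (i + k) (f ^ k • t) =
      ∑ k ∈ Finset.range (Nat.find (hN t)), m (i + k) (f ^ k • t) := by
  symm
  apply Finset.sum_subset (Finset.range_mono hn)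
  intro k _ hk
  have hk' : Nat.find (hN t) ≤ k := by
    by_contra hlt
    exact hk (Finset.mem_range.2 (not_le.1 hlt))
  obtain ⟨d, rfl⟩ := Nat.exists_eq_add_of_le hk'
  rw [pow_add, mul_comm, mul_smul, Nat.find_spec (hN t), smul_zero, _root_.map_zero]

/-- the pointwise finite series `∑ f^k m_{i+k}` -/
noncomputable def series (m : ℕ → (N →ₗ[A] X)) (i : ℕ) : N →ₗ[A] X where
  toFun t := ∑ k ∈ Finset.range (Nat.find (hN t)), m (i + k) (f ^ k • t)
  map_add' t t' := by
    let n := max (Nat.find (hN (t + t'))) (max (Nat.find (hN t)) (Nat.find (hN t')))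
    rw [← sum_eq_of_le f N X hN m i (t + t') n (le_max_left _ _),
      ← sum_eq_of_le f N X hN m i t n ((le_max_left _ _).trans (le_max_right _ _)),
      ← sum_eq_of_le f N X hN m i t' n ((le_max_right _ _).trans (le_max_right _ _)),
      ← Finset.sum_add_distrib]
    refine Finset.sum_congr rfl fun k _ => ?_
    rw [smul_add, _root_.map_add]
  map_smul' a t := by
    let n := max (Nat.find (hN (a • t))) (Nat.find (hN t))
    rw [← sum_eq_of_le f N X hN m i (a • t) n (le_max_left _ _),
      ← sum_eq_of_le f N X hN m i t n (le_max_right _ _), RingHom.id_apply, Finset.smul_sum]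
    refine Finset.sum_congr rfl fun k _ => ?_
    rw [smul_comm, _root_.map_smul]

include hN in
theorem DC_linearMap_of_torsion : DC f (N →ₗ[A] X) := by
  constructor
  · rw [Phi_injective_iff]
    intro x hx
    funext i
    apply LinearMap.ext
    intro t
    obtain ⟨n, hn⟩ := hN t
    rw [eq_pow_smul_of_forall hx n i, LinearMap.smul_apply, ← _root_.map_smul, hn, _root_.map_zero]
    rfl
  · intro m
    refine ⟨fun i => series f N X hN m i, ?_⟩
    funext i
    apply LinearMap.ext
    intro t
    rw [Phi_apply, LinearMap.sub_apply, LinearMap.smul_apply]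
    let n := Nat.find (hN t)
    have h1 : series f N X hN m i t = ∑ k ∈ Finset.range (n + 1), m (i + k) (f ^ k • t) :=
      (sum_eq_of_le f N X hN m i t (n + 1) (Nat.le_succ _)).symm
    have h2 : series f N X hN m (i + 1) t = ∑ k ∈ Finset.range n, m (i + 1 + k) (f ^ k • t) :=
      rfl
    rw [h1, h2, Finset.sum_range_succ', Finset.smul_sum]
    have h3 : ∑ k ∈ Finset.range n, f • (m (i + 1 + k)) (f ^ k • t) =
        ∑ k ∈ Finset.range n, (m (i + (k + 1))) (f ^ (k + 1) • t) := by
      refine Finset.sum_congr rfl fun k _ => ?_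
      rw [← _root_.map_smul, smul_smul, ← pow_succ', add_assoc, add_comm 1 k]
    rw [h3, add_sub_cancel_left, pow_zero, one_smul, add_zero]

end LinearMap

/-- `Hom•(T, L)ⁱ` is derived `f`-complete when `T` is termwise `f`-power torsion -/
theorem DC_cochain (f : A) (T L : DRing.Cx A)
    (hT : ∀ (p : ℤ) (t : T.X p), ∃ n : ℕ, f ^ n • t = 0) (i : ℤ) :
    DC f (Cochain T L i) := by
  have h : ∀ j : Triplet i, DC f (T.X j.p ⟶ L.X j.q) := fun j =>
    (DC_linearMap_of_torsion f (T.X j.p) (L.X j.q) (hT j.p)).of_equiv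
      (ModuleCat.homLinearEquiv (S := A)).symm
  exact DC_pi_dep (fun j : Triplet i => (T.X j.p ⟶ L.X j.q)) h

/-- `Hom•(T, L)` is derived complete when `T` is termwise torsion -/
theorem idc_homCx_of_torsion (I : Ideal A) (T L : DRing.Cx A)
    (hT : ∀ f ∈ I, ∀ (p : ℤ) (t : T.X p), ∃ n : ℕ, f ^ n • t = 0) :
    DRing.IsDerivedComplete I (Q.obj (DRing.homCx T L)) := by
  rw [idc_Q_iff]
  intro g hg n
  refine DC_homology_of_theta g (DRing.homCx T L) (g • 𝟙 _) ?_
    (fun n => homologyMap_smul_id g _ n) n
  haveI : ∀ i, IsIso ((Theta (DRing.homCx T L) (g • 𝟙 _)).f i) := by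
    intro i
    rw [ConcreteCategory.isIso_iff_bijective]
    have h5 : (ConcreteCategory.hom ((Theta (DRing.homCx T L) (g • 𝟙 _)).f i) :
        (ℕ → Cochain T L i) → (ℕ → Cochain T L i)) = Phi g (Cochain T L i) := by
      funext y k
      rfl
    rw [h5]
    exact DC_cochain g T L (hT g hg) i
  exact HomologicalComplex.Hom.isIso_of_components _

end Helper5.RHomE
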