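import Mathlib
import Groth.Prelude.Def_DRing3
import Groth.Prelude.Def_DRing4
import Groth.Prelude.Def_Wider
import Groth.Agent.Lib.Helper5.RHomE.HomTors
import Groth.Agent.Lib.Helper5.RHomE.HomPre
import Groth.Agent.Lib.Helper5.RHomE.HomGamma
import Groth.Agent.Lib.Helper5.RHomK.RHomComplete
import Groth.Agent.Lib.Helper5.LC.LocCohColim
import Groth.Agent.Lib.Helper3.LocDual7
import Groth.Agent.Lib.Helper3.HomUnit

/-!
# Local duality with derived completion: `RHom(K, ω)^ ≅ RHom(RΓ_m K, E)`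
-/

set_option autoImplicit false
universe u
open CategoryTheory CategoryTheory.Limits CochainComplex CochainComplex.HomComplex Pretriangulated

attribute [local instance] HasDerivedCategory.standard

namespace Helper5.RHomE

open Groth.Agent.Lib.Helper5.HomCx Helper5.RGam Helper5.RHomK DRing DerivedCategory

variable {A : Type u} [CommRing A]

/-- a dualizing complex is cohomologically bounded below -/
lemma exists_isGE_of_isDualizing {ω : Dual.D A} (hω : Dual.IsDualizing A ω) :
    ∃ a : ℤ, ω.IsGE a := by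
  obtain ⟨a, b, h⟩ := hω.finite_injective_dimension
  refine ⟨a, ?_⟩
  rw [DerivedCategory.isGE_iff]
  intro i hi
  haveI : Subsingleton (Dual.HD A ω i) := by
    haveI := h A i (Or.inl hi)
    exact (Groth.Agent.Helper3.HomUnit.unitEquiv ω i).symm.toEquiv.subsingleton
  exact ModuleCat.isZero_of_subsingleton _

/-- bounded below objects have bounded below models with injective terms -/
theorem exists_bddBelow_injective_model (ω : Dual.D A) (a : ℤ) [ω.IsGE a] :
    ∃ (J : DRing.Cx A) (_ : J.IsStrictlyGE a) (_ : ∀ n, Injective (J.X n)),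
      Nonempty (ω ≅ Q.obj J) := by
  obtain ⟨K, hK, ⟨e⟩⟩ := exists_iso_Q_obj_of_isGE ω a
  obtain ⟨L, i, hi, hL, hL'⟩ :=
    CochainComplex.Plus.modelCategoryQuillen.exists_quasiIso_injective K a
  haveI : IsIso (Q.map i) := (DerivedCategory.isIso_Q_map_iff_quasiIso (φ := i)).2 hi
  exact ⟨L, hL', hL, ⟨e ≪≫ asIso (Q.map i)⟩⟩

/-- **local duality**: `RΓ_m(ω) ≅ E[0]` for a normalized dualizing complex -/
theorem nonempty_rgamma_omega_iso [IsLocalRing A] [IsNoetherianRing A] (ω : Dual.D A)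
    (hω : Dual.IsDualizing A ω) (hn : Dual.IsNormalized A ω) (E : Type u) [AddCommGroup E]
    [Module A E] (f : IsLocalRing.ResidueField A →ₗ[A] E) (hf : InjHull.IsInjectiveHull f)
    [DRing.HasRgammaI (IsLocalRing.maximalIdeal A)] :
    Nonempty ((DRing.RgammaI (IsLocalRing.maximalIdeal A)).obj ω ≅ Dual.inD A E) := by
  obtain ⟨⟨e0⟩, hne⟩ := Groth.Agent.Helper3.LocDual.main_S1718 A ω hω hn E f hf
  have hX : ∀ i : ℤ, i ≠ 0 → Subsingleton
      (Dual.HD A ((DRing.RgammaI (IsLocalRing.maximalIdeal A)).obj ω) i) := fun i hi => by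
    obtain ⟨e⟩ := Helper5.LC.main (IsLocalRing.maximalIdeal A) i ω
    haveI := hne i hi
    exact e.toEquiv.subsingleton
  haveI : ((DRing.RgammaI (IsLocalRing.maximalIdeal A)).obj ω).IsGE 0 := by
    rw [DerivedCategory.isGE_iff]
    intro i hi
    haveI := hX i (by omega)
    exact ModuleCat.isZero_of_subsingleton _
  haveI : ((DRing.RgammaI (IsLocalRing.maximalIdeal A)).obj ω).IsLE 0 := by
    rw [DerivedCategory.isLE_iff]
    intro i hi
    haveI := hX i (by omega)
    exact ModuleCat.isZero_of_subsingleton _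
  obtain ⟨Y, ⟨eY⟩⟩ := exists_iso_singleFunctor_obj_of_isGE_of_isLE
    ((DRing.RgammaI (IsLocalRing.maximalIdeal A)).obj ω) 0
  have e2 : (homologyFunctor (ModuleCat.{u} A) 0).obj
      ((DRing.RgammaI (IsLocalRing.maximalIdeal A)).obj ω) ≅ Y :=
    (homologyFunctor (ModuleCat.{u} A) 0).mapIso eY ≪≫
      (singleFunctorCompHomologyFunctorIso (ModuleCat.{u} A) 0).app Y
  obtain ⟨e1⟩ := Helper5.LC.main (IsLocalRing.maximalIdeal A) 0 ω
  let eYE : Y ≅ ModuleCat.of A E := e2.symm ≪≫ (e1.trans e0).toModuleIso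
  exact ⟨eY ≪≫ (DerivedCategory.singleFunctor (ModuleCat.{u} A) 0).mapIso eYE⟩

section Main

variable [IsNoetherianRing A] (I : Ideal A)

omit [IsNoetherianRing A] in
lemma isStrictlyGE_gammaCx (J : DRing.Cx A) (a : ℤ) [J.IsStrictlyGE a] :
    (gammaCx I J).IsStrictlyGE a := by
  rw [CochainComplex.isStrictlyGE_iff]
  intro i hi
  exact (DRing.gammaI I).map_isZero (J.isZero_of_isStrictlyGE a i hi)

lemma injective_gammaCx_X' (J : DRing.Cx A) (hJ : ∀ n, Injective (J.X n)) (n : ℤ) :
    Injective ((gammaCx I J).X n) := by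
  haveI : Module.Injective A (J.X n) :=
    haveI := hJ n
    Module.injective_module_of_injective_object A (J.X n)
  haveI : Module.Injective A (torsionSub I (J.X n)) := injective_torsionSub I (J.X n)
  exact Module.injective_object_of_injective_module A (torsionSub I (J.X n))

omit [IsNoetherianRing A] in
lemma mem_torsionSub_gammaCx (X : DRing.Cx A) (p : ℤ) (t : (gammaCx I X).X p) :
    t ∈ torsionSub I ((gammaCx I X).X p) := by
  obtain ⟨N, hN⟩ := (show torsionSub I (X.X p) from t).2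
  exact ⟨N, fun a ha => Subtype.ext (hN a ha)⟩

omit [IsNoetherianRing A] in
lemma exists_pow_smul_eq_zero_of_mem_torsionSub {M : Type u} [AddCommGroup M] [Module A M]
    {t : M} (ht : t ∈ torsionSub I M) (f : A) (hf : f ∈ I) : ∃ n : ℕ, f ^ n • t = 0 := by
  obtain ⟨N, hN⟩ := ht
  exact ⟨N, hN _ (Ideal.pow_mem_pow hf N)⟩

variable [DRing.HasRgammaI I] [DRing.HasDerivedCompletion I]

/-- the completion of `RHom(K, L)` is `RHom(RΓ_I K, RΓ_I L)` for `L` bounded below -/
theorem nonempty_completion_rhom_iso (K : DRing.Cx A) [DRing.HasRHomCx K] (G : DRing.Cx A)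
    [DRing.HasRHomCx G] (hG : Nonempty (DRing.toD G ≅ (DRing.RgammaI I).obj (DRing.toD K)))
    (L : Dual.D A) (a : ℤ) [L.IsGE a] :
    Nonempty (((DRing.derivedCompletion I).obj ((DRing.RHomCx K).obj L)).obj ≅
      (DRing.RHomCx G).obj ((DRing.RgammaI I).obj L)) := by
  obtain ⟨J, hJge, hJinj, ⟨eL⟩⟩ := exists_bddBelow_injective_model L a
  haveI : J.IsKInjective := CochainComplex.isKInjective_of_injective J a
  obtain ⟨JK, j, hJK, hj, hJKinj⟩ :=
    Helper5.KInj.exists_kinjective_resolution' (A := ModuleCat.{u} A) K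
  haveI := hJK
  haveI : IsIso (Q.map j) := (DerivedCategory.isIso_Q_map_iff_quasiIso (φ := j)).2 hj
  have hJKinj' : ∀ n, Module.Injective A (JK.X n) := by
    intro n
    haveI : Injective (ModuleCat.of A (JK.X n)) := hJKinj n
    exact Module.injective_module_of_injective_object A (JK.X n)
  haveI := hasRHomCx (gammaCx I JK)
  haveI := isStrictlyGE_gammaCx I J a
  haveI : (gammaCx I J).IsKInjective := by
    haveI := injective_gammaCx_X' I J hJinj
    exact CochainComplex.isKInjective_of_injective (gammaCx I J) a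
  have hT := mem_torsionSub_gammaCx I JK
  -- the universal arrow
  have hq := quasiIso_homCxPre J j hj
  haveI : IsIso (Q.map (homCxPre j J)) :=
    (DerivedCategory.isIso_Q_map_iff_quasiIso (φ := homCxPre j J)).2 hq
  let e₁ : (DRing.RHomCx K).obj L ≅ Q.obj (DRing.homCx JK J) :=
    (DRing.RHomCx K).mapIso eL ≪≫ rhomIso K J ≪≫ (asIso (Q.map (homCxPre j J))).symm
  have hY : DRing.IsDerivedComplete I (Q.obj (DRing.homCx (gammaCx I JK) J)) :=
    idc_homCx_of_torsion I (gammaCx I JK) J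
      (fun f hf p t => exists_pow_smul_eq_zero_of_mem_torsionSub I (hT p t) f hf)
  obtain ⟨a1, -⟩ := exists_iso_of_universal I ((DRing.RHomCx K).obj L)
    (Q.obj (DRing.homCx (gammaCx I JK) J)) (e₁.hom ≫ Q.map (homCxPre (gammaIncl I JK) J)) hY
    (by
      intro Y' hY'
      have h1 := homCxPre_gammaIncl_precomp_bijective I JK J hJKinj' hJinj Y' hY'
      have h2 := bijective_iso_comp (Y := Y') e₁
      have : (fun g : Q.obj (DRing.homCx (gammaCx I JK) J) ⟶ Y' =>
            (e₁.hom ≫ Q.map (homCxPre (gammaIncl I JK) J)) ≫ g) =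
          (fun g : Q.obj (DRing.homCx JK J) ⟶ Y' => e₁.hom ≫ g) ∘
            (fun g : Q.obj (DRing.homCx (gammaCx I JK) J) ⟶ Y' =>
              Q.map (homCxPre (gammaIncl I JK) J) ≫ g) := by
        funext g
        simp
      rw [this]
      exact h2.comp h1)
  -- identification of the target
  haveI := isIso_homCxMap_gammaIncl I (gammaCx I JK) J hT
  let e₂ : Q.obj (DRing.homCx (gammaCx I JK) J) ≅ Q.obj (DRing.homCx (gammaCx I JK) (gammaCx I J)) :=
    (Q.mapIso (asIso (DRing.homCxMap (gammaCx I JK) (gammaIncl I J)))).symm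
  let e₃ : Q.obj (DRing.homCx (gammaCx I JK) (gammaCx I J)) ≅
      (DRing.RHomCx (gammaCx I JK)).obj (Q.obj (gammaCx I J)) :=
    (rhomIso (gammaCx I JK) (gammaCx I J)).symm
  let e₄ : Q.obj (gammaCx I J) ≅ (DRing.RgammaI I).obj L :=
    (rgammaIso I J).symm ≪≫ (DRing.RgammaI I).mapIso eL.symm
  let eTG : Q.obj (gammaCx I JK) ≅ Q.obj G :=
    (rgammaIso I JK).symm ≪≫ (DRing.RgammaI I).mapIso (asIso (Q.map j)).symm ≪≫ hG.some.symm
  obtain ⟨e₅⟩ := nonempty_rhom_iso_of_iso (gammaCx I JK) G eTG ((DRing.RgammaI I).obj L)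
  exact ⟨a1 ≪≫ e₂ ≪≫ e₃ ≪≫ (DRing.RHomCx (gammaCx I JK)).mapIso e₄ ≪≫ e₅⟩

end Main

end Helper5.RHomE
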