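import Mathlib
import Groth.Prelude.Def_DRing3
import Groth.Prelude.Def_DRing4
import Groth.Prelude.Def_Wider
import Groth.Agent.Lib.Helper5.RHomE.Main
import Groth.Agent.Lib.Helper5.RHomE.HomH
import Groth.Agent.Lib.Helper5.RHomE.HomInj
import Groth.Agent.Lib.Helper5.RHomK.Complete
import Groth.Agent.Lib.Helper5.DMod.DCAdic
import Groth.Agent.Lib.Helper5.DMod.BridgeCx
import Groth.Agent.Lib.Helper5.RGam.Restrict

/-!
# Local duality for complexes over a complete local ring
-/

set_option autoImplicit false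
universe u
open CategoryTheory CategoryTheory.Limits CochainComplex CochainComplex.HomComplex Pretriangulated

attribute [local instance] HasDerivedCategory.standard

namespace Helper5.RHomE

open Groth.Agent.Lib.Helper5.HomCx Helper5.RGam Helper5.RHomK DRing DerivedCategory Helper5.DMod
  Helper5.DComp

variable {A : Type u} [CommRing A]

/-- finite modules over a Noetherian adically complete ring are derived complete -/
theorem DC_of_finite [IsNoetherianRing A] (I : Ideal A) [IsAdicComplete I A] (f : A) (hf : f ∈ I)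
    (N : Type u) [AddCommGroup N] [Module A N] [Module.Finite A N] : DC f N := by
  obtain ⟨n, π, hπ⟩ := Module.Finite.exists_fin' A N
  obtain ⟨m, π', hπ'⟩ := Module.Finite.exists_fin' A (LinearMap.ker π)
  let u : (Fin m → A) →ₗ[A] (Fin n → A) := (LinearMap.ker π).subtype ∘ₗ π'
  have hu : LinearMap.range u = LinearMap.ker π := by
    rw [LinearMap.range_comp, LinearMap.range_eq_top.2 hπ', Submodule.map_top,
      Submodule.range_subtype]
  have h0 : DC f A := DC.of_isAdicComplete (I := I) hf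
  have h1 : DC f ((Fin n → A) ⧸ LinearMap.range u) := DC.coker h0.pi h0.pi u
  exact (h1.of_equiv (Submodule.quotEquivOfEq _ _ hu)).of_equiv
    (π.quotKerEquivOfSurjective hπ)

theorem isDerivedComplete_of_finite_cohomology [IsNoetherianRing A] (I : Ideal A)
    [IsAdicComplete I A] (L : Dual.D A) (hL : ∀ i : ℤ, Module.Finite A (Dual.HD A L i)) :
    DRing.IsDerivedComplete I L := by
  rw [isDerivedComplete_iff]
  intro g hg n
  haveI := hL n
  exact DC_of_finite I g hg _

theorem isDerivedComplete_rhom (I : Ideal A) (K : DRing.Cx A) [DRing.HasRHomCx K] (L : Dual.D A)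
    (hL : DRing.IsDerivedComplete I L) : DRing.IsDerivedComplete I ((DRing.RHomCx K).obj L) := by
  obtain ⟨J, j, hJ, hj⟩ := Helper5.KInj.exists_kinjective_resolution (Q.objPreimage L)
  haveI := hJ
  haveI : IsIso (Q.map j) := (DerivedCategory.isIso_Q_map_iff_quasiIso (φ := j)).2 hj
  let eL : L ≅ Q.obj J := (Q.objObjPreimageIso L).symm ≪≫ asIso (Q.map j)
  have h1 : DRing.IsDerivedComplete I (Q.obj J) := isDerivedComplete_of_iso I eL hL
  exact isDerivedComplete_of_iso I ((DRing.RHomCx K).mapIso eL ≪≫ rhomIso K J).symm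
    (idc_homCx I K J h1)

/-- **S1761**: local duality for complexes over a complete local ring -/
theorem main_S1761 (A : Type u) [CommRing A] [IsLocalRing A] [IsNoetherianRing A]
    [IsAdicComplete (IsLocalRing.maximalIdeal A) A] (ω : Dual.D A) (hω : Dual.IsDualizing A ω)
    (hn : Dual.IsNormalized A ω) (E : Type u) [AddCommGroup E] [Module A E]
    (f : IsLocalRing.ResidueField A →ₗ[A] E) (hf : InjHull.IsInjectiveHull f) (K : Dual.D A)
    (hK : ∀ i : ℤ, Module.Finite A (Dual.HD A K i)) (i : ℤ) :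
    Nonempty ((K ⟶ ω⟦(-i)⟧) ≃ₗ[A]
      (Dual2.HDI A (IsLocalRing.maximalIdeal A) K i →ₗ[A] E)) := by
  haveI := hasRgammaI (IsLocalRing.maximalIdeal A)
  haveI : DRing.HasDerivedCompletion (IsLocalRing.maximalIdeal A) :=
    hasDerivedCompletion_of_fg _ (IsNoetherian.noetherian _)
  haveI : Module.Injective A E := hf.isInjective
  let K' := Q.objPreimage K
  let eK : Q.obj K' ≅ K := Q.objObjPreimageIso K
  haveI := hasRHomCx K'
  let G := Q.objPreimage ((DRing.RgammaI (IsLocalRing.maximalIdeal A)).obj (Q.obj K'))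
  let eG : Q.obj G ≅ (DRing.RgammaI (IsLocalRing.maximalIdeal A)).obj (Q.obj K') :=
    Q.objObjPreimageIso _
  haveI := hasRHomCx G
  obtain ⟨a, ha⟩ := exists_isGE_of_isDualizing hω
  haveI := ha
  have hωc : DRing.IsDerivedComplete (IsLocalRing.maximalIdeal A) ω :=
    isDerivedComplete_of_finite_cohomology _ ω hω.finite_cohomology
  have hX := isDerivedComplete_rhom (IsLocalRing.maximalIdeal A) K' ω hωc
  obtain ⟨a1, -⟩ := exists_iso_of_universal (IsLocalRing.maximalIdeal A)
    ((DRing.RHomCx K').obj ω) ((DRing.RHomCx K').obj ω) (𝟙 _) hX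
    (fun Y' _ => by
      have : (fun g : (DRing.RHomCx K').obj ω ⟶ Y' => 𝟙 _ ≫ g) = id := by
        funext g
        simp
      rw [this]
      exact Function.bijective_id)
  obtain ⟨e1⟩ := nonempty_completion_rhom_iso (IsLocalRing.maximalIdeal A) K' G ⟨eG⟩ ω a
  obtain ⟨e2⟩ := nonempty_rgamma_omega_iso ω hω hn E f hf
  let eX : (DRing.RHomCx K').obj ω ≅ (DRing.RHomCx G).obj (Dual.inD A E) :=
    a1.symm ≪≫ e1 ≪≫ (DRing.RHomCx G).mapIso e2
  obtain ⟨E1⟩ := nonempty_rhom_HD_equiv K' (-i) ω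
  obtain ⟨E2⟩ := nonempty_rhom_HD_equiv G (-i) (Dual.inD A E)
  obtain ⟨E3⟩ := nonempty_hom_shift_inj_equiv i E (Q.obj G)
  obtain ⟨E4⟩ := Helper5.LC.main (IsLocalRing.maximalIdeal A) i K
  let E5 : Dual.HD A (Q.obj G) i ≃ₗ[A]
      Dual.HD A ((DRing.RgammaI (IsLocalRing.maximalIdeal A)).obj K) i :=
    ((DerivedCategory.homologyFunctor (ModuleCat.{u} A) i).mapIso
      (eG ≪≫ (DRing.RgammaI (IsLocalRing.maximalIdeal A)).mapIso eK)).toLinearEquiv
  let E0 : (K ⟶ ω⟦(-i)⟧) ≃ₗ[A] (Q.obj K' ⟶ ω⟦(-i)⟧) := Linear.homCongr A eK.symm (Iso.refl _)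
  let EX : Dual.HD A ((DRing.RHomCx K').obj ω) (-i) ≃ₗ[A]
      Dual.HD A ((DRing.RHomCx G).obj (Dual.inD A E)) (-i) :=
    ((DerivedCategory.homologyFunctor (ModuleCat.{u} A) (-i)).mapIso eX).toLinearEquiv
  exact ⟨E0 ≪≫ₗ E1.symm ≪≫ₗ EX ≪≫ₗ E2 ≪≫ₗ E3 ≪≫ₗ
    LinearEquiv.arrowCongr (E5 ≪≫ₗ E4) (LinearEquiv.refl A E)⟩

end Helper5.RHomE
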